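import Groth.Agent.ResProp.EF.K446.Dev
import Groth.Agent.ResProp.EF.K83.FinDatum
import Groth.Agent.ResProp.EF.K416.Cobar

/-!
# Devissage in the language of helper83's `FinDatum` and helper416's `SES`
-/

set_option autoImplicit false
set_option linter.unusedSectionVars false

universe u

open TensorProduct

noncomputable section

namespace Groth.Agent.ResProp.EF.K446

open K83

variable {R : Type u} [CommRing R] {A : Type u} [CommRing A] [HopfAlgebra R A]
variable {D : Type u} [CommRing D] [Algebra R D] {c : CoAlg R A D}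
variable {N : Type u} [AddCommGroup N] [Module R N] [Module D N] [IsScalarTower R D N] {co : HopfRep.Comod R A N}

theorem isHopfMod_iff : IsHopfMod c N co ↔ HM c.comod co :=
  ⟨fun h => @TameAct.IsHopfMod.mk R _ A _ _ D _ _ N _ _ _ _ c.comod co h.smul,
    fun h => ⟨fun d n => h.coact_smul d n⟩⟩

theorem isCoactAlg (c : CoAlg R A D) : @GLin.IsCoactAlg R _ A _ _ D _ _ c.comod :=
  @GLin.IsCoactAlg.mk R _ A _ _ D _ _ c.comod (map_one c.ρ) (map_mul c.ρ)

/-- twisted modules -/
theorem IsHopfMod.twist (h : IsHopfMod c N co) (g : A) (hg : IsGroupLikeElem R g) :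
    IsHopfMod c N (ComodTens.Comod.twist co g hg) := isHopfMod_iff.2 (HM.twist (isHopfMod_iff.1 h) g hg)

variable [Module.Flat R A]

section Sub

theorem isHopfMod_sub (h : IsHopfMod c N co) (W : Submodule D N)
    (hW : @HopfRep.IsSubcomod R A _ _ _ _ N _ _ co (W.restrictScalars R)) : IsHopfMod c W (subC co W hW) :=
  isHopfMod_iff.2 (hm_sub (isHopfMod_iff.1 h) W hW)

theorem isHopfMod_quot (h : IsHopfMod c N co) (W : Submodule D N)
    (hW : @HopfRep.IsSubcomod R A _ _ _ _ N _ _ co (W.restrictScalars R)) : IsHopfMod c (N ⧸ W) (quotC co W hW) :=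
  isHopfMod_iff.2 (hm_quot (isHopfMod_iff.1 h) W hW)

theorem sub_tor (h : IsHopfMod c N co) {s : D} {χ : A} (hs : c.ρ s = s ⊗ₜ χ) (hχ : IsUnit χ) :
    @HopfRep.IsSubcomod R A _ _ _ _ N _ _ co ((torS N s).restrictScalars R) := by
  have := isCoactAlg c
  exact isSubcomod_torS (isHopfMod_iff.1 h) hs hχ

theorem sub_ker (h : IsHopfMod c N co) {s : D} {χ : A} (hs : c.ρ s = s ⊗ₜ χ) (hχ : IsUnit χ) :
    @HopfRep.IsSubcomod R A _ _ _ _ N _ _ co ((kerS N s).restrictScalars R) :=
  isSubcomod_kerS (isHopfMod_iff.1 h) hs hχ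

omit [Module.Flat R A] in
theorem sub_im (h : IsHopfMod c N co) {s : D} {χ : A} (hs : c.ρ s = s ⊗ₜ χ) :
    @HopfRep.IsSubcomod R A _ _ _ _ N _ _ co ((imS N s).restrictScalars R) :=
  isSubcomod_imS (isHopfMod_iff.1 h) hs

/-- `0 → W(g) → N(g) → (N/W)(g) → 0` for a subcomodule `W` and a group-like `g`. -/
theorem ses_sub (W : Submodule D N)
    (hW : @HopfRep.IsSubcomod R A _ _ _ _ N _ _ co (W.restrictScalars R)) (g : A) (hg : IsGroupLikeElem R g) :
    @K416.SES R A _ _ _ W N (N ⧸ W) _ _ _ _ _ _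
      (ComodTens.Comod.twist (subC co W hW) g hg) (ComodTens.Comod.twist co g hg)
      (ComodTens.Comod.twist (quotC co W hW) g hg) (inc R W) (pr R W) :=
  @K416.SES.mk R A _ _ _ W N (N ⧸ W) _ _ _ _ _ _
    (ComodTens.Comod.twist (subC co W hW) g hg) (ComodTens.Comod.twist co g hg)
    (ComodTens.Comod.twist (quotC co W hW) g hg) (inc R W) (pr R W)
    ((ch_inc co W hW).twist g hg) ((ch_pr co W hW).twist g hg) (inc_injective W) (pr_surjective W) (exact_inc_pr W)

/-- `0 → N(g) → N(g') → (N/sN)(g') → 0`, `g = χ g'`, `s` injective. -/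
theorem ses_smul (h : IsHopfMod c N co) {s : D} {χ : A} (hs : c.ρ s = s ⊗ₜ χ)
    (hinj : Function.Injective fun n : N => s • n) (g g' : A) (hg : IsGroupLikeElem R g)
    (hg' : IsGroupLikeElem R g') (hgg : g = χ * g') :
    @K416.SES R A _ _ _ N N (N ⧸ imS N s) _ _ _ _ _ _
      (ComodTens.Comod.twist co g hg) (ComodTens.Comod.twist co g' hg')
      (ComodTens.Comod.twist (quotC co (imS N s) (sub_im h hs)) g' hg')
      ((LinearMap.lsmul D N s).restrictScalars R) (pr R (imS N s)) :=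
  @K416.SES.mk R A _ _ _ N N (N ⧸ imS N s) _ _ _ _ _ _
    (ComodTens.Comod.twist co g hg) (ComodTens.Comod.twist co g' hg')
    (ComodTens.Comod.twist (quotC co (imS N s) (sub_im h hs)) g' hg')
    ((LinearMap.lsmul D N s).restrictScalars R) (pr R (imS N s))
    (CH.smul (isHopfMod_iff.1 h) hs g g' hg hg' hgg) ((ch_pr co _ _).twist g' hg') hinj (pr_surjective _)
    (exact_smul_pr s)

end Sub

end Groth.Agent.ResProp.EF.K446
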