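import Groth.Prelude.Def_ComodSub
import Groth.Prelude.Def_GLin
import Groth.Prelude.Def_W4c1tameactTame
import Mathlib.RingTheory.Noetherian.Basic
import Mathlib.RingTheory.Flat.Basic
import Mathlib.Algebra.Module.Torsion.Basic

/-!
# Devissage of `(D, O)`-modules by a semi-invariant `s` (S16912, G6a)

`R` a commutative ring, `O` a commutative bialgebra, flat over `R`, `D` a commutative comodule algebra,
`(D, O)`-modules = `TameAct.IsHopfMod R O D N`, all comodule structures explicit.
-/

set_option autoImplicit false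
set_option linter.unusedSectionVars false

universe u

open TensorProduct

noncomputable section

namespace Groth.Agent.ResProp.EF.K446

variable {R : Type u} [CommRing R] {O : Type u} [CommRing O] [Bialgebra R O]
variable {D : Type u} [CommRing D] [Algebra R D]
variable {N : Type u} [AddCommGroup N] [Module R N] [Module D N] [IsScalarTower R D N]
variable {N' : Type u} [AddCommGroup N'] [Module R N'] [Module D N'] [IsScalarTower R D N']

/-- `N` (with coaction `c`) is a `(D, O)`-module. -/
abbrev HM (cD : HopfRep.Comod R O D) (c : HopfRep.Comod R O N) : Prop :=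
  @TameAct.IsHopfMod R _ O _ _ D _ _ N _ _ _ _ cD c

/-- comodule morphisms with explicit structures -/
abbrev CH (c : HopfRep.Comod R O N) (c' : HopfRep.Comod R O N') (f : N →ₗ[R] N') : Prop :=
  @Hoch.IsComodHom R _ O _ _ _ N _ _ c N' _ _ c' f

section hmSMul

/-- `hmSMul` is natural for `D`-linear maps. -/
theorem hmSMul_rTensor (f : N →ₗ[D] N') (x : D ⊗[R] O) (z : N ⊗[R] O) :
    (f.restrictScalars R).rTensor O (TameAct.hmSMul R O D N x z) =
      TameAct.hmSMul R O D N' x ((f.restrictScalars R).rTensor O z) := by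
  induction x using TensorProduct.induction_on with
  | zero => simp
  | add x y hx hy => simp only [map_add, LinearMap.add_apply, hx, hy]
  | tmul d a =>
    induction z using TensorProduct.induction_on with
    | zero => simp
    | add x y hx hy => simp only [map_add, hx, hy]
    | tmul n b => simp

theorem hmSMul_mul (x y : D ⊗[R] O) (z : N ⊗[R] O) :
    TameAct.hmSMul R O D N (x * y) z = TameAct.hmSMul R O D N x (TameAct.hmSMul R O D N y z) := by
  induction x using TensorProduct.induction_on with
  | zero => simp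
  | add x y hx hy => simp only [map_add, add_mul, LinearMap.add_apply, hx, hy]
  | tmul d a =>
    induction y using TensorProduct.induction_on with
    | zero => simp
    | add x y hx hy => simp only [map_add, mul_add, LinearMap.add_apply, hx, hy]
    | tmul d' a' =>
      induction z using TensorProduct.induction_on with
      | zero => simp
      | add x y hx hy => simp only [map_add, hx, hy]
      | tmul n b => simp [mul_smul, mul_assoc]

theorem hmSMul_tmul_eq (d : D) (a : O) (z : N ⊗[R] O) :
    TameAct.hmSMul R O D N (d ⊗ₜ a) z = (LinearMap.mulLeft R a).lTensor N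
      (((LinearMap.lsmul D N d).restrictScalars R).rTensor O z) := by
  induction z using TensorProduct.induction_on with
  | zero => simp
  | add x y hx hy => simp only [map_add, hx, hy]
  | tmul n b => simp

end hmSMul

section Twist

/-- A comodule morphism remains one after twisting both sides by the same group-like element. -/
theorem CH.twist {c : HopfRep.Comod R O N} {c' : HopfRep.Comod R O N'} {f : N →ₗ[R] N'} (h : CH c c' f)
    (g : O) (hg : IsGroupLikeElem R g) : CH (ComodTens.Comod.twist c g hg) (ComodTens.Comod.twist c' g hg) f := by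
  refine LinearMap.ext fun n => ?_
  have h1 : c'.coact (f n) = f.rTensor O (c.coact n) := LinearMap.congr_fun h n
  change (LinearMap.mulRight R g).lTensor N' (c'.coact (f n)) =
    f.rTensor O ((LinearMap.mulRight R g).lTensor N (c.coact n))
  rw [h1]
  generalize c.coact n = z
  induction z using TensorProduct.induction_on with
  | zero => simp
  | add x y hx hy => simp only [map_add, hx, hy]
  | tmul n b => simp

theorem HM.twist {cD : HopfRep.Comod R O D} {c : HopfRep.Comod R O N} (h : HM cD c) (g : O)
    (hg : IsGroupLikeElem R g) : HM cD (ComodTens.Comod.twist c g hg) := by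
  refine @TameAct.IsHopfMod.mk R _ O _ _ D _ _ N _ _ _ _ cD (ComodTens.Comod.twist c g hg) fun d n => ?_
  have h1 : c.coact (d • n) = TameAct.hmSMul R O D N (cD.coact d) (c.coact n) := h.coact_smul d n
  change (LinearMap.mulRight R g).lTensor N (c.coact (d • n)) =
    TameAct.hmSMul R O D N (cD.coact d) ((LinearMap.mulRight R g).lTensor N (c.coact n))
  rw [h1]
  generalize cD.coact d = x
  generalize c.coact n = z
  induction x using TensorProduct.induction_on with
  | zero => simp
  | add x y hx hy => simp only [map_add, LinearMap.add_apply, hx, hy]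
  | tmul d a =>
    induction z using TensorProduct.induction_on with
    | zero => simp
    | add x y hx hy => simp only [map_add, hx, hy]
    | tmul n b => simp [mul_assoc]

/-- Multiplication by a semi-invariant `s` of weight `χ` is a morphism from `N` twisted by `χ` to `N`. -/
theorem CH.smul {cD : HopfRep.Comod R O D} {c : HopfRep.Comod R O N} (h : HM cD c) {s : D} {χ : O}
    (hs : cD.coact s = s ⊗ₜ χ) (g g' : O) (hg : IsGroupLikeElem R g) (hg' : IsGroupLikeElem R g')
    (hgg : g = χ * g') :
    CH (ComodTens.Comod.twist c g hg) (ComodTens.Comod.twist c g' hg')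
      ((LinearMap.lsmul D N s).restrictScalars R) := by
  refine LinearMap.ext fun n => ?_
  have h1 : c.coact (s • n) = TameAct.hmSMul R O D N (cD.coact s) (c.coact n) := h.coact_smul s n
  change (LinearMap.mulRight R g').lTensor N (c.coact (s • n)) =
    ((LinearMap.lsmul D N s).restrictScalars R).rTensor O ((LinearMap.mulRight R g).lTensor N (c.coact n))
  rw [h1, hs]
  generalize c.coact n = z
  induction z using TensorProduct.induction_on with
  | zero => simp
  | add x y hx hy => simp only [map_add, hx, hy]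
  | tmul n b => simp [hgg, mul_comm, mul_left_comm]

end Twist

section Sub

variable [Module.Flat R O]

/-- The structure of a `D`-submodule which is a subcomodule. -/
@[reducible] def subC (c : HopfRep.Comod R O N) (W : Submodule D N)
    (hW : @HopfRep.IsSubcomod R O _ _ _ _ N _ _ c (W.restrictScalars R)) : HopfRep.Comod R O W :=
  (ComodSub.Comod.restr c (W.restrictScalars R) hW : HopfRep.Comod R O (W.restrictScalars R))

/-- The inclusion of `W`, `R`-linear. -/
def inc (R : Type u) [CommRing R] [Algebra R D] [Module R N] [IsScalarTower R D N] (W : Submodule D N) : W →ₗ[R] N :=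
  W.subtype.restrictScalars R

theorem inc_injective (W : Submodule D N) : Function.Injective (inc R W) := W.injective_subtype

theorem ch_inc (c : HopfRep.Comod R O N) (W : Submodule D N)
    (hW : @HopfRep.IsSubcomod R O _ _ _ _ N _ _ c (W.restrictScalars R)) : CH (subC c W hW) c (inc R W) :=
  ComodSub.isComodHom_subtype c (W.restrictScalars R) hW

theorem inc_rTensor_injective (W : Submodule D N) : Function.Injective ((inc R W).rTensor O) :=
  Module.Flat.rTensor_preserves_injective_linearMap _ (inc_injective W)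

theorem hm_sub {cD : HopfRep.Comod R O D} {c : HopfRep.Comod R O N} (h : HM cD c) (W : Submodule D N)
    (hW : @HopfRep.IsSubcomod R O _ _ _ _ N _ _ c (W.restrictScalars R)) : HM cD (subC c W hW) := by
  refine @TameAct.IsHopfMod.mk R _ O _ _ D _ _ W _ _ _ _ cD (subC c W hW) fun d n => ?_
  apply inc_rTensor_injective W
  have h2 : ∀ w : W, (inc R W).rTensor O ((subC c W hW).coact w) = c.coact (w : N) := fun w =>
    ComodSub.restr_coact_coe c (W.restrictScalars R) hW w
  have h3 := hmSMul_rTensor W.subtype (cD.coact d) ((subC c W hW).coact n)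
  refine (h2 (d • n)).trans ?_
  refine Eq.trans ?_ h3.symm
  have h4 : (W.subtype.restrictScalars R).rTensor O ((subC c W hW).coact n) = c.coact (n : N) := h2 n
  rw [h4]
  exact h.coact_smul d (n : N)

end Sub

section Quot

/-- The structure of the quotient by a `D`-submodule which is a subcomodule. -/
@[reducible] def quotC (c : HopfRep.Comod R O N) (W : Submodule D N)
    (hW : @HopfRep.IsSubcomod R O _ _ _ _ N _ _ c (W.restrictScalars R)) : HopfRep.Comod R O (N ⧸ W) :=
  (ComodSub.Comod.quot c (W.restrictScalars R) hW : HopfRep.Comod R O (N ⧸ W.restrictScalars R))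

/-- The projection, `R`-linear. -/
def pr (R : Type u) [CommRing R] [Algebra R D] [Module R N] [IsScalarTower R D N] (W : Submodule D N) :
    N →ₗ[R] N ⧸ W := W.mkQ.restrictScalars R

theorem pr_surjective (W : Submodule D N) : Function.Surjective (pr R W) := W.mkQ_surjective

theorem exact_inc_pr (W : Submodule D N) : Function.Exact (inc R W) (pr R W) := by
  intro x
  constructor
  · intro h
    exact ⟨⟨x, (Submodule.Quotient.mk_eq_zero W).1 h⟩, rfl⟩
  · rintro ⟨y, rfl⟩
    exact (Submodule.Quotient.mk_eq_zero W).2 y.2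

theorem ch_pr (c : HopfRep.Comod R O N) (W : Submodule D N)
    (hW : @HopfRep.IsSubcomod R O _ _ _ _ N _ _ c (W.restrictScalars R)) : CH c (quotC c W hW) (pr R W) :=
  ComodSub.isComodHom_mkQ c (W.restrictScalars R) hW

theorem hm_quot {cD : HopfRep.Comod R O D} {c : HopfRep.Comod R O N} (h : HM cD c) (W : Submodule D N)
    (hW : @HopfRep.IsSubcomod R O _ _ _ _ N _ _ c (W.restrictScalars R)) : HM cD (quotC c W hW) := by
  refine @TameAct.IsHopfMod.mk R _ O _ _ D _ _ (N ⧸ W) _ _ _ _ cD (quotC c W hW) fun d n => ?_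
  obtain ⟨n, rfl⟩ := pr_surjective (R := R) W n
  have h2 : ∀ w : N, (quotC c W hW).coact (pr R W w) = (pr R W).rTensor O (c.coact w) :=
    fun w => LinearMap.congr_fun (ch_pr c W hW) w
  have h3 := hmSMul_rTensor W.mkQ (cD.coact d) (c.coact n)
  refine (h2 (d • n)).trans ?_
  rw [h2 n]
  refine Eq.trans ?_ h3
  exact congrArg ((pr R W).rTensor O) (h.coact_smul d n)

end Quot

/-! ### The submodules attached to a semi-invariant -/

section Semi

variable {cD : HopfRep.Comod R O D} {c : HopfRep.Comod R O N}

theorem coact_pow [@GLin.IsCoactAlg R _ O _ _ D _ _ cD] {s : D} {χ : O} (hs : cD.coact s = s ⊗ₜ χ) (m : ℕ) :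
    cD.coact (s ^ m) = (s ^ m) ⊗ₜ (χ ^ m) := by
  induction m with
  | zero =>
    rw [pow_zero, pow_zero]
    exact GLin.IsCoactAlg.coact_one (k := R) (A := O) (R := D)
  | succ m ih =>
    rw [pow_succ, pow_succ]
    refine (GLin.IsCoactAlg.coact_mul (k := R) (A := O) (R := D) (s ^ m) s).trans ?_
    rw [ih, hs, Algebra.TensorProduct.tmul_mul_tmul]

/-- `N[s] = {n | s n = 0}` -/
def kerS (N : Type u) [AddCommGroup N] [Module D N] (s : D) : Submodule D N := LinearMap.ker (LinearMap.lsmul D N s)

theorem mem_kerS {s : D} {n : N} : n ∈ kerS N s ↔ s • n = 0 := by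
  rw [kerS, LinearMap.mem_ker, LinearMap.lsmul_apply]

/-- `s N` -/
def imS (N : Type u) [AddCommGroup N] [Module D N] (s : D) : Submodule D N := LinearMap.range (LinearMap.lsmul D N s)

theorem mem_imS {s : D} {n : N} : n ∈ imS N s ↔ ∃ m, s • m = n := by
  rw [imS, LinearMap.mem_range]; rfl

/-- the `s`-power torsion -/
def torS (N : Type u) [AddCommGroup N] [Module D N] (s : D) : Submodule D N where
  carrier := {n | ∃ m : ℕ, s ^ m • n = 0}
  zero_mem' := ⟨0, smul_zero _⟩
  add_mem' := by
    rintro a b ⟨m, hm⟩ ⟨m', hm'⟩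
    refine ⟨m + m', ?_⟩
    have h1 : s ^ (m + m') • a = 0 := by rw [pow_add, mul_comm, mul_smul, hm, smul_zero]
    have h2 : s ^ (m + m') • b = 0 := by rw [pow_add, mul_smul, hm', smul_zero]
    rw [smul_add, h1, h2, add_zero]
  smul_mem' := by
    rintro d a ⟨m, hm⟩
    exact ⟨m, by rw [smul_comm, hm, smul_zero]⟩

theorem mem_torS {s : D} {n : N} : n ∈ torS N s ↔ ∃ m : ℕ, s ^ m • n = 0 := Iff.rfl

theorem isSubcomod_kerS [Module.Flat R O] (h : HM cD c) {s : D} {χ : O} (hs : cD.coact s = s ⊗ₜ χ)
    (hχ : IsUnit χ) : @HopfRep.IsSubcomod R O _ _ _ _ N _ _ c ((kerS N s).restrictScalars R) := by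
  intro n hn
  have h0 : s • n = 0 := mem_kerS.1 hn
  have h1 : TameAct.hmSMul R O D N (s ⊗ₜ χ) (c.coact n) = 0 := by
    rw [← hs, ← h.coact_smul s n, h0, map_zero]
  rw [hmSMul_tmul_eq] at h1
  obtain ⟨u, rfl⟩ := hχ
  have h2 : ((LinearMap.lsmul D N s).restrictScalars R).rTensor O (c.coact n) = 0 := by
    have h3 := congrArg ((LinearMap.mulLeft R (↑u⁻¹ : O)).lTensor N) h1
    rw [map_zero, ← LinearMap.comp_apply, ← LinearMap.lTensor_comp] at h3
    have h4 : LinearMap.mulLeft R (↑u⁻¹ : O) ∘ₗ LinearMap.mulLeft R (↑u : O) = LinearMap.id := by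
      ext x
      simp
    rwa [h4, LinearMap.lTensor_id, LinearMap.id_apply] at h3
  have hex : Function.Exact (((kerS N s).restrictScalars R).subtype.rTensor O)
      (((LinearMap.lsmul D N s).restrictScalars R).rTensor O) := by
    apply Module.Flat.rTensor_exact
    intro x
    constructor
    · intro hx
      exact ⟨⟨x, hx⟩, rfl⟩
    · rintro ⟨y, rfl⟩
      exact y.2
  exact (hex _).1 h2

theorem isSubcomod_of_iSup {ι : Type*} (W : ι → Submodule D N) (V : Submodule D N) (hV : ∀ n ∈ V, ∃ i, n ∈ W i)
    (hWV : ∀ i, W i ≤ V)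
    (hW : ∀ i, @HopfRep.IsSubcomod R O _ _ _ _ N _ _ c ((W i).restrictScalars R)) :
    @HopfRep.IsSubcomod R O _ _ _ _ N _ _ c (V.restrictScalars R) := by
  intro n hn
  obtain ⟨i, hi⟩ := hV n hn
  obtain ⟨z, hz⟩ := hW i n hi
  let j : ((W i).restrictScalars R : Submodule R N) →ₗ[R] (V.restrictScalars R : Submodule R N) :=
    Submodule.inclusion (fun x hx => hWV i hx)
  refine ⟨j.rTensor O z, ?_⟩
  rw [← LinearMap.comp_apply, ← LinearMap.rTensor_comp]
  exact hz

theorem isSubcomod_torS [Module.Flat R O] [@GLin.IsCoactAlg R _ O _ _ D _ _ cD] (h : HM cD c) {s : D} {χ : O}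
    (hs : cD.coact s = s ⊗ₜ χ) (hχ : IsUnit χ) :
    @HopfRep.IsSubcomod R O _ _ _ _ N _ _ c ((torS N s).restrictScalars R) :=
  isSubcomod_of_iSup (fun m : ℕ => kerS N (s ^ m)) (torS N s)
    (fun _ hn => (mem_torS.1 hn).imp fun _ hm => mem_kerS.2 hm) (fun m _ hn => ⟨m, mem_kerS.1 hn⟩)
    fun m => isSubcomod_kerS h (coact_pow hs m) (hχ.pow m)

theorem isSubcomod_imS (h : HM cD c) {s : D} {χ : O} (hs : cD.coact s = s ⊗ₜ χ) :
    @HopfRep.IsSubcomod R O _ _ _ _ N _ _ c ((imS N s).restrictScalars R) := by
  intro n hn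
  obtain ⟨m, rfl⟩ := mem_imS.1 hn
  have h1 : c.coact (s • m) = TameAct.hmSMul R O D N (cD.coact s) (c.coact m) := h.coact_smul s m
  let f : N →ₗ[R] ((imS N s).restrictScalars R : Submodule R N) :=
    (LinearMap.rangeRestrict (LinearMap.lsmul D N s)).restrictScalars R
  have hf : ((imS N s).restrictScalars R).subtype ∘ₗ f = (LinearMap.lsmul D N s).restrictScalars R := rfl
  refine ⟨(LinearMap.mulLeft R χ).lTensor _ (f.rTensor O (c.coact m)), ?_⟩
  refine Eq.trans ?_ h1.symm
  rw [hs, hmSMul_tmul_eq, ← hf, LinearMap.rTensor_comp, LinearMap.comp_apply]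
  generalize f.rTensor O (c.coact m) = z
  induction z using TensorProduct.induction_on with
  | zero => simp
  | add x y hx hy => simp only [map_add, hx, hy]
  | tmul n b => simp

/-- `N/T` has no `s`-torsion. -/
theorem smul_injective_quot_torS (s : D) : Function.Injective fun x : N ⧸ torS N s => s • x := by
  intro x y hxy
  obtain ⟨x, rfl⟩ := (torS N s).mkQ_surjective x
  obtain ⟨y, rfl⟩ := (torS N s).mkQ_surjective y
  have h1 : s • x - s • y ∈ torS N s := (Submodule.Quotient.eq (torS N s)).1 hxy
  rw [← smul_sub] at h1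
  obtain ⟨m, hm⟩ := h1
  exact (Submodule.Quotient.eq (torS N s)).2 ⟨m + 1, by rw [pow_succ, mul_smul, hm]⟩

/-- The torsion submodule of a Noetherian module is killed by a power of `s`. -/
theorem exists_pow_torS [IsNoetherian D N] (s : D) : ∃ m : ℕ, ∀ n ∈ torS N s, s ^ m • n = 0 := by
  obtain ⟨t, ht⟩ := (IsNoetherian.noetherian (torS N s) : (torS N s).FG)
  have h1 : ∀ x ∈ t, ∃ m : ℕ, s ^ m • x = 0 := fun x hx => mem_torS.1 (ht ▸ Submodule.subset_span hx)
  choose! m hm using h1
  refine ⟨t.sup m, fun n hn => ?_⟩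
  have h2 : torS N s ≤ kerS N (s ^ t.sup m) := by
    rw [← ht, Submodule.span_le]
    intro x hx
    refine mem_kerS.2 ?_
    obtain ⟨j, hj⟩ := Nat.exists_eq_add_of_le (Finset.le_sup (f := m) hx)
    rw [hj, pow_add, mul_comm, mul_smul, hm x hx, smul_zero]
  exact mem_kerS.1 (h2 hn)

/-- The inclusion of the kernel, multiplication by `s`, the projection to the cokernel: exactness. -/
theorem exact_smul_pr (s : D) :
    Function.Exact ((LinearMap.lsmul D N s).restrictScalars R) (pr R (imS N s)) := by
  intro x
  constructor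
  · intro h
    exact mem_imS.1 ((Submodule.Quotient.mk_eq_zero (imS N s)).1 h)
  · rintro ⟨y, rfl⟩
    exact (Submodule.Quotient.mk_eq_zero (imS N s)).2 (mem_imS.2 ⟨y, rfl⟩)

end Semi

end Groth.Agent.ResProp.EF.K446
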