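import Groth.Agent.ResProp.EF.K446.DevF

/-!
# Kernels and images of Hopf module maps; plain short exact sequences (G6b, (b) HopfSub)
-/

set_option autoImplicit false
set_option linter.unusedSectionVars false

universe u

open TensorProduct

noncomputable section

namespace Groth.Agent.ResProp.EF.K446

open K83

variable {R : Type u} [CommRing R] {A : Type u} [CommRing A] [HopfAlgebra R A]
variable {D : Type u} [CommRing D] [Algebra R D] {c : CoAlg R A D}
variable {X : Type u} [AddCommGroup X] [Module R X] [Module D X] [IsScalarTower R D X] {coX : HopfRep.Comod R A X}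
variable {Y : Type u} [AddCommGroup Y] [Module R Y] [Module D Y] [IsScalarTower R D Y] {coY : HopfRep.Comod R A Y}

/-- the kernel of a colinear map is a subcomodule (`A` flat) -/
theorem sub_kerMap [Module.Flat R A] {f : X →ₗ[D] Y} (hf : CH coX coY (f.restrictScalars R)) :
    @HopfRep.IsSubcomod R A _ _ _ _ X _ _ coX ((LinearMap.ker f).restrictScalars R) := by
  intro n hn
  have h0 : f n = 0 := hn
  have h1 : (f.restrictScalars R).rTensor A (coX.coact n) = 0 :=
    (LinearMap.congr_fun hf n).symm.trans ((congrArg coY.coact h0).trans (map_zero _))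
  have hex : Function.Exact (((LinearMap.ker f).restrictScalars R).subtype.rTensor A)
      ((f.restrictScalars R).rTensor A) := by
    apply Module.Flat.rTensor_exact
    intro x
    constructor
    · intro hx
      exact ⟨⟨x, hx⟩, rfl⟩
    · rintro ⟨y, rfl⟩
      exact y.2
  exact (hex _).1 h1

/-- the image of a colinear map is a subcomodule -/
theorem sub_rangeMap {f : X →ₗ[D] Y} (hf : CH coX coY (f.restrictScalars R)) :
    @HopfRep.IsSubcomod R A _ _ _ _ Y _ _ coY ((LinearMap.range f).restrictScalars R) := by
  rintro _ ⟨m, rfl⟩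
  let g : X →ₗ[R] ((LinearMap.range f).restrictScalars R : Submodule R Y) := (f.rangeRestrict).restrictScalars R
  have hg : ((LinearMap.range f).restrictScalars R).subtype ∘ₗ g = f.restrictScalars R := rfl
  refine ⟨g.rTensor A (coX.coact m), ?_⟩
  rw [← LinearMap.comp_apply, ← LinearMap.rTensor_comp, hg]
  exact (LinearMap.congr_fun hf m).symm

variable [Module.Flat R A]

/-- `0 → W → X → X/W → 0` -/
theorem ses_plain (W : Submodule D X)
    (hW : @HopfRep.IsSubcomod R A _ _ _ _ X _ _ coX (W.restrictScalars R)) :
    @K416.SES R A _ _ _ W X (X ⧸ W) _ _ _ _ _ _ (subC coX W hW) coX (quotC coX W hW) (inc R W) (pr R W) :=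
  @K416.SES.mk R A _ _ _ W X (X ⧸ W) _ _ _ _ _ _ (subC coX W hW) coX (quotC coX W hW) (inc R W) (pr R W)
    (ch_inc coX W hW) (ch_pr coX W hW) (inc_injective W) (pr_surjective W) (exact_inc_pr W)

/-- a colinear map with values in `W` is colinear into `W` -/
theorem ch_codRestrict (W : Submodule D Y)
    (hW : @HopfRep.IsSubcomod R A _ _ _ _ Y _ _ coY (W.restrictScalars R)) {f : X →ₗ[D] Y}
    (hf : CH coX coY (f.restrictScalars R)) (h : ∀ x, f x ∈ W) :
    CH coX (subC coY W hW) ((f.codRestrict W h).restrictScalars R) := by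
  refine LinearMap.ext fun x => inc_rTensor_injective (O := A) W ?_
  have h1 : (inc R W).rTensor A ((subC coY W hW).coact (f.codRestrict W h x)) = coY.coact (f x) :=
    ComodSub.restr_coact_coe coY (W.restrictScalars R) hW (f.codRestrict W h x)
  refine h1.trans ?_
  have h2 : (inc R W) ∘ₗ ((f.codRestrict W h).restrictScalars R) = f.restrictScalars R := rfl
  change _ = (inc R W).rTensor A (((f.codRestrict W h).restrictScalars R).rTensor A (coX.coact x))
  rw [← LinearMap.comp_apply, ← LinearMap.rTensor_comp, h2]
  exact LinearMap.congr_fun hf x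

/-- a colinear map killing `W` is colinear on the quotient -/
theorem ch_liftQ (W : Submodule D X)
    (hW : @HopfRep.IsSubcomod R A _ _ _ _ X _ _ coX (W.restrictScalars R)) {f : X →ₗ[D] Y}
    (hf : CH coX coY (f.restrictScalars R)) (h : W ≤ LinearMap.ker f) :
    CH (quotC coX W hW) coY ((W.liftQ f h).restrictScalars R) := by
  refine LinearMap.ext fun x => ?_
  obtain ⟨x, rfl⟩ := pr_surjective (R := R) W x
  have h1 : (quotC coX W hW).coact (pr R W x) = (pr R W).rTensor A (coX.coact x) :=
    LinearMap.congr_fun (ch_pr coX W hW) x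
  change coY.coact (f x) = ((W.liftQ f h).restrictScalars R).rTensor A ((quotC coX W hW).coact (pr R W x))
  rw [h1, ← LinearMap.comp_apply, ← LinearMap.rTensor_comp]
  have h2 : ((W.liftQ f h).restrictScalars R) ∘ₗ (pr R W) = f.restrictScalars R := by
    ext y; rfl
  rw [h2]
  exact LinearMap.congr_fun hf x

end Groth.Agent.ResProp.EF.K446
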