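import Groth.Agent.ResProp.EF.K446.DevF
import Groth.Agent.ResProp.EF.K416.Tw

/-!
# The Hopf modules `T` (`s`-power torsion), `N/T`, `N/sN` and their exact sequences (G6a, T5)
-/

set_option autoImplicit false
set_option linter.unusedSectionVars false

universe u

open TensorProduct

noncomputable section

namespace Groth.Agent.ResProp.EF.K446

open K83

variable {R : Type u} [CommRing R] {A : Type u} [CommRing A] [HopfAlgebra R A] [Module.Flat R A]
variable {D : Type u} [CommRing D] [Algebra R D] {c : CoAlg R A D}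

omit [Module.Flat R A] in
theorem isUnit_gl {χ : A} (hχ : IsGroupLikeElem R χ) : IsUnit χ :=
  IsUnit.of_mul_eq_one _ hχ.mul_antipode_cancel

variable {χ : A} (hχ : IsGroupLikeElem R χ) {s : D} (hs : c.ρ s = s ⊗ₜ[R] χ) (N : K416.HM c)

/-- the `s`-power torsion of `N` -/
@[reducible] def tor : K416.HM c where
  V := torS N.V s
  co := subC N.co (torS N.V s) (sub_tor N.hm hs (isUnit_gl hχ))
  hm := isHopfMod_sub N.hm _ _

/-- `N / T` -/
@[reducible] def modTor : K416.HM c where
  V := N.V ⧸ torS N.V s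
  co := quotC N.co (torS N.V s) (sub_tor N.hm hs (isUnit_gl hχ))
  hm := isHopfMod_quot N.hm _ _

/-- `N / sN` -/
@[reducible] def modS : K416.HM c where
  V := N.V ⧸ imS N.V s
  co := quotC N.co (imS N.V s) (sub_im N.hm hs)
  hm := isHopfMod_quot N.hm _ _

/-- `0 → T → N → N/T → 0` -/
theorem hses_tor : K416.HSES (N' := tor hχ hs N) (N := N) (N'' := modTor hχ hs N) (torS N.V s).subtype
    (torS N.V s).mkQ where
  hf := ch_inc N.co (torS N.V s) (sub_tor N.hm hs (isUnit_gl hχ))
  hg := ch_pr N.co (torS N.V s) (sub_tor N.hm hs (isUnit_gl hχ))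
  inj := (torS N.V s).injective_subtype
  surj := (torS N.V s).mkQ_surjective
  exact := exact_inc_pr (R := R) (torS N.V s)

/-- `N -s-> N → N/sN`, `s` injective on `N` -/
theorem coker_modS (hinj : ∀ v : N.V, s • v = 0 → v = 0) :
    K416.Coker (N := N) (Q := modS hs N) s (imS N.V s).mkQ where
  hg := ch_pr N.co (imS N.V s) (sub_im N.hm hs)
  inj := hinj
  surj := (imS N.V s).mkQ_surjective
  exact := fun _ => (Submodule.Quotient.mk_eq_zero (imS N.V s)).trans mem_imS

theorem modTor_inj (v : (modTor hχ hs N).V) (h : s • v = 0) : v = 0 :=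
  smul_injective_quot_torS s (h.trans (smul_zero s).symm)

section fin

variable [IsNoetherianRing D] [Module.Finite D N.V]

theorem finite_tor : Module.Finite D (tor hχ hs N).V := by
  have : IsNoetherian D N.V := inferInstance
  exact (inferInstance : Module.Finite D (torS N.V s))

omit [IsNoetherianRing D] in
theorem finite_modTor : Module.Finite D (modTor hχ hs N).V :=
  (inferInstance : Module.Finite D (N.V ⧸ torS N.V s))

omit [IsNoetherianRing D] in
theorem finite_modS : Module.Finite D (modS hs N).V :=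
  (inferInstance : Module.Finite D (N.V ⧸ imS N.V s))

end fin

/-! Nilpotence of elements of `D` -/

/-- every element of `N` is killed by a power of `t` -/
def TorsBy (t : D) (V : Type u) [AddCommGroup V] [Module D V] : Prop := ∀ v : V, ∃ m : ℕ, t ^ m • v = 0

theorem torsBy_tor_self : TorsBy s (tor hχ hs N).V := fun v => by
  obtain ⟨m, hm⟩ := mem_torS.1 v.2
  exact ⟨m, Subtype.ext hm⟩

theorem torsBy_tor {t : D} (h : TorsBy t N.V) : TorsBy t (tor hχ hs N).V := fun v => by
  obtain ⟨m, hm⟩ := h v.1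
  exact ⟨m, Subtype.ext hm⟩

theorem torsBy_modTor {t : D} (h : TorsBy t N.V) : TorsBy t (modTor hχ hs N).V := fun v => by
  obtain ⟨v, rfl⟩ := (torS N.V s).mkQ_surjective v
  obtain ⟨m, hm⟩ := h v
  exact ⟨m, (map_smul (torS N.V s).mkQ (t ^ m) v).symm.trans (by rw [hm, map_zero])⟩

theorem torsBy_modS_self : TorsBy s (modS hs N).V := fun v => by
  obtain ⟨v, rfl⟩ := (imS N.V s).mkQ_surjective v
  refine ⟨1, ?_⟩
  rw [pow_one]
  exact (Submodule.Quotient.mk_eq_zero (imS N.V s)).2 (mem_imS.2 ⟨v, rfl⟩)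

theorem torsBy_modS {t : D} (h : TorsBy t N.V) : TorsBy t (modS hs N).V := fun v => by
  obtain ⟨v, rfl⟩ := (imS N.V s).mkQ_surjective v
  obtain ⟨m, hm⟩ := h v
  exact ⟨m, (map_smul (imS N.V s).mkQ (t ^ m) v).symm.trans (by rw [hm, map_zero])⟩

/-- If the `s i` generate the unit ideal and every element is killed by powers of all of them, the module is zero. -/
theorem eq_zero_of_torsBy {r : ℕ} (t : Fin r → D) (ht : Ideal.span (Set.range t) = ⊤) {V : Type u} [AddCommGroup V]
    [Module D V] (h : ∀ i, TorsBy (t i) V) (v : V) : v = 0 := by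
  choose m hm using fun i => h i v
  have h1 := Ideal.span_pow_eq_top (Set.range t) ht (∑ i, m i)
  have h2 : Ideal.span ((fun x => x ^ (∑ i, m i)) '' Set.range t) ≤
      LinearMap.ker (LinearMap.toSpanSingleton D V v) := by
    rw [Ideal.span_le]
    rintro _ ⟨_, ⟨i, rfl⟩, rfl⟩
    obtain ⟨j, hj⟩ := Nat.exists_eq_add_of_le (Finset.single_le_sum (f := m) (fun _ _ => Nat.zero_le _)
      (Finset.mem_univ i))
    change (t i ^ (∑ i, m i)) • v = 0
    rw [hj, pow_add, mul_comm, mul_smul, hm i, smul_zero]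
  have h3 : (1 : D) ∈ LinearMap.ker (LinearMap.toSpanSingleton D V v) := h2 (h1 ▸ Submodule.mem_top)
  simpa using h3

end Groth.Agent.ResProp.EF.K446
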